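import Groth.Prelude.Def_RelSpec
import Groth.Agent.Lib.InvExt.Gen
import Groth.Agent.Lib.InvExt.FiniteFibre
import Groth.Agent.Lib.QCoh.Affine
import Mathlib.Algebra.TrivSqZeroExt.Basic

/-!
# The algebra `O ⊕ L` with `L² = 0`
-/

set_option autoImplicit false
set_option linter.all false
set_option backward.isDefEq.respectTransparency false

universe u

open CategoryTheory CategoryTheory.Limits AlgebraicGeometry TopologicalSpace Opposite
open GrothLib.InvExt

noncomputable section

namespace GrothLib.Ribbon10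

variable {X : Scheme.{u}} (L : X.Modules)

instance opModule (U : X.Opens) : Module (↑Γ(X, U))ᵐᵒᵖ ↑Γ(L, U) :=
  Module.compHom _ ((RingHom.id Γ(X, U)).fromOpposite mul_comm)

instance centralScalar (U : X.Opens) : IsCentralScalar (↑Γ(X, U)) ↑Γ(L, U) := ⟨fun _ _ => rfl⟩

/-- Sections of `O ⊕ L` over an open set. -/
abbrev E (U : X.Opens) : Type u := TrivSqZeroExt ↑Γ(X, U) ↑Γ(L, U)

/-- Restriction of sections of `O ⊕ L`. -/
def resE {U V : X.Opens} (h : V ≤ U) : E L U →+* E L V where
  toFun t := (fres X h t.fst, mres L h t.snd)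
  map_one' := TrivSqZeroExt.ext (map_one _) (map_zero _)
  map_zero' := TrivSqZeroExt.ext (map_zero _) (map_zero _)
  map_add' a b := TrivSqZeroExt.ext (map_add _ _ _) (map_add _ _ _)
  map_mul' a b := TrivSqZeroExt.ext (map_mul _ _ _)
    (show mres L h (a.fst • b.snd + b.fst • a.snd) = fres X h a.fst • mres L h b.snd + fres X h b.fst • mres L h a.snd from
      (map_add _ _ _).trans (congrArg₂ (· + ·) (mres_smul L h _ _) (mres_smul L h _ _)))

theorem fst_resE {U V : X.Opens} (h : V ≤ U) (t : E L U) : (resE L h t).fst = fres X h t.fst := rfl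

theorem snd_resE {U V : X.Opens} (h : V ≤ U) (t : E L U) : (resE L h t).snd = mres L h t.snd := rfl

/-- The presheaf `O ⊕ L`. -/
def pre : TopCat.Presheaf CommRingCat.{u} X.carrier where
  obj U := CommRingCat.of (E L U.unop)
  map i := CommRingCat.ofHom (resE L i.unop.le)
  map_id U := CommRingCat.hom_ext (RingHom.ext fun t =>
    TrivSqZeroExt.ext (fres_self (X := X) _) (mres_self L _))
  map_comp i j := CommRingCat.hom_ext (RingHom.ext fun t =>
    TrivSqZeroExt.ext (fres_fres (X := X) _ _ _).symm (mres_mres L _ _ _).symm)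

/-- The structure map of `O ⊕ L`. -/
def str : X.presheaf ⟶ pre L where
  app U := CommRingCat.ofHom (TrivSqZeroExt.inlHom ↑Γ(X, U.unop) ↑Γ(L, U.unop))
  naturality U V i := CommRingCat.hom_ext (RingHom.ext fun r =>
    TrivSqZeroExt.ext rfl (map_zero (L.presheaf.map (homOfLE i.unop.le).op).hom).symm)

/-- The projection to `O`. -/
def aug : pre L ⟶ X.presheaf where
  app U := CommRingCat.ofHom ((TrivSqZeroExt.fstHom ↑Γ(X, U.unop) ↑Γ(X, U.unop) ↑Γ(L, U.unop)).toRingHom)
  naturality U V i := CommRingCat.hom_ext (RingHom.ext fun r => rfl)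

theorem isSheaf : (pre L).IsSheaf := by
  refine (TopCat.Presheaf.isSheaf_iff_isSheafUniqueGluing _).mpr ?_
  intro ι U sf hsf
  obtain ⟨a, ha, hau⟩ := X.sheaf.existsUnique_gluing' U (iSup U) (fun i => homOfLE (le_iSup U i)) le_rfl
    (fun i => (sf i).fst) fun i k => congrArg TrivSqZeroExt.fst (hsf i k)
  obtain ⟨m, hm, hmu⟩ := TopCat.Sheaf.existsUnique_gluing' ⟨L.presheaf, L.isSheaf⟩ U (iSup U)
    (fun i => homOfLE (le_iSup U i)) le_rfl
    (fun i => (sf i).snd) fun i k => congrArg TrivSqZeroExt.snd (hsf i k)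
  refine ⟨((a, m) : E L (iSup U)), fun i => TrivSqZeroExt.ext (ha i) (hm i), fun s hs =>
    TrivSqZeroExt.ext ?_ ?_⟩
  · exact hau s.fst fun i => congrArg TrivSqZeroExt.fst (hs i)
  · exact hmu s.snd fun i => congrArg TrivSqZeroExt.snd (hs i)

theorem isQC (hq : L.IsQuasicoherent) : RelSpec.IsQC (pre L) (str L) := by
  intro U hU r
  haveI := hq
  let i : X.basicOpen r ≤ U := X.basicOpen_le r
  letI aY : Algebra Γ(X, U) Γ(X, X.basicOpen r) := (X.presheaf.map (homOfLE i).op).hom.toAlgebra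
  have lY : IsLocalization.Away r Γ(X, X.basicOpen r) := hU.isLocalization_basicOpen r
  obtain ⟨hlift, hsep⟩ := GrothLib.QCoh.smulLift_and_smulSep_of_isAffineOpen (M := L) hU r
  letI aB : Algebra (E L U) (E L (X.basicOpen r)) := (resE L i).toAlgebra
  show @IsLocalization.Away (E L U) _ (TrivSqZeroExt.inl r) (E L (X.basicOpen r)) _ aB
  have hres : ∀ t : E L U, algebraMap (E L U) (E L (X.basicOpen r)) t = resE L i t := fun _ => rfl
  have hinl : ∀ (n : ℕ), resE L i ((TrivSqZeroExt.inl r : E L U) ^ n) = TrivSqZeroExt.inl ((fres X i r) ^ n) := by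
    intro n
    rw [TrivSqZeroExt.inl_pow]
    exact TrivSqZeroExt.ext (map_pow _ _ _) (map_zero _)
  have hsmul : ∀ (V : X.Opens) (c : Γ(X, V)) (t : E L V),
      (TrivSqZeroExt.inl c * t).fst = c * t.fst ∧ (TrivSqZeroExt.inl c * t).snd = c • t.snd := by
    intro V c t
    refine ⟨rfl, ?_⟩
    rw [TrivSqZeroExt.snd_mul]
    simp
  have hu : IsUnit (fres X i r) := IsLocalization.Away.algebraMap_isUnit (S := Γ(X, X.basicOpen r)) r
  refine IsLocalization.Away.mk (TrivSqZeroExt.inl r) ?_ ?_ ?_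
  · rw [hres]
    have h := hinl 1
    rw [pow_one, pow_one] at h
    rw [h]
    exact hu.map (TrivSqZeroExt.inlHom _ _)
  · intro y
    obtain ⟨n, a, ha⟩ := IsLocalization.Away.surj r y.fst
    obtain ⟨k, t, ht⟩ := hlift y.snd
    refine ⟨n + k, TrivSqZeroExt.inl (r ^ k * a) + TrivSqZeroExt.inr (r ^ n • t), ?_⟩
    rw [hres, hres, ← map_pow, hinl, mul_comm]
    refine TrivSqZeroExt.ext ?_ ?_
    · rw [(hsmul _ _ _).1, fst_resE]
      rw [TrivSqZeroExt.fst_add, TrivSqZeroExt.fst_inl, TrivSqZeroExt.fst_inr, add_zero]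
      show _ = algebraMap Γ(X, U) Γ(X, X.basicOpen r) (r ^ k * a)
      rw [map_mul, ← ha, map_pow]
      show _ = (fres X i r) ^ k * (y.fst * (fres X i r) ^ n)
      ring
    · rw [(hsmul _ _ _).2, snd_resE]
      rw [TrivSqZeroExt.snd_add, TrivSqZeroExt.snd_inl, TrivSqZeroExt.snd_inr, zero_add, mres_smul, pow_add,
        mul_smul]
      show _ = fres X i (r ^ n) • mres L i t
      rw [show fres X i (r ^ n) = (fres X i r) ^ n from map_pow _ _ _]
      exact congrArg _ ht.symm
  · intro x y hxy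
    rw [hres, hres] at hxy
    have h1 : algebraMap Γ(X, U) Γ(X, X.basicOpen r) x.fst = algebraMap _ _ y.fst :=
      congrArg TrivSqZeroExt.fst hxy
    obtain ⟨⟨_, n, rfl⟩, hn⟩ := IsLocalization.exists_of_eq (M := Submonoid.powers r) h1
    obtain ⟨m, hm⟩ := hsep (x.snd - y.snd) (by
      rw [map_sub]
      exact sub_eq_zero.2 (congrArg TrivSqZeroExt.snd hxy))
    refine ⟨n + m, ?_⟩
    rw [TrivSqZeroExt.inl_pow]
    refine TrivSqZeroExt.ext ?_ ?_
    · rw [(hsmul _ _ _).1, (hsmul _ _ _).1, pow_add, mul_comm (r ^ n), mul_assoc, mul_assoc]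
      exact congrArg _ hn
    · rw [(hsmul _ _ _).2, (hsmul _ _ _).2, pow_add, mul_smul, mul_smul]
      rw [smul_sub, sub_eq_zero] at hm
      exact congrArg _ hm

/-- The algebra `O ⊕ L`. -/
def alg (hq : L.IsQuasicoherent) : RelSpec.QCAlg X where
  presheaf := pre L
  isSheaf := isSheaf L
  str := str L
  isQC := isQC L hq

/-- The projection as a homomorphism of algebras. -/
def augHom (hq : L.IsQuasicoherent) : alg L hq ⟶ RelSpec.QCAlg.unit X :=
  ⟨aug L, by ext U r; rfl⟩

end GrothLib.Ribbon10
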