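import Groth.Agent.Lib.Ribbon10.Alg
import Groth.Agent.Lib.RLpsi8.GammaIso
import Groth.Agent.Lib.AffAlg8.Hom
import Groth.Agent.Lib.SqZero11.Lift
import Groth.Agent.Lib.InvExt.Gen

/-!
# Split ribbons
-/

set_option autoImplicit false
set_option linter.all false
set_option backward.isDefEq.respectTransparency false
set_option maxHeartbeats 1000000

universe u

open CategoryTheory CategoryTheory.Limits AlgebraicGeometry TopologicalSpace Opposite
open GrothLib.InvExt

noncomputable section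

namespace GrothLib.Ribbon10

variable {X : Scheme.{u}} (L : X.Modules) (hq : L.IsQuasicoherent)

/-- The split square-zero extension. -/
def C : Scheme.{u} := RelSpec.QCAlg.spec (alg L hq)

/-- The retraction. -/
def pr : C L hq ⟶ X := RelSpec.QCAlg.π (alg L hq)

instance : IsAffineHom (pr L hq) := RelSpec.QCAlg.isAffineHom_π (alg L hq)

/-- Functions over an open of the base. -/
def gam (U : X.Opens) : Γ(C L hq, pr L hq ⁻¹ᵁ U) →+* E L U :=
  ((alg L hq).gammaMap.app (op U)).hom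

theorem gam_bijective (U : X.Opens) : Function.Bijective (gam L hq U) := by
  haveI := RLpsi8.isIso_gammaMap (alg L hq)
  exact ConcreteCategory.bijective_of_isIso ((alg L hq).gammaMap.app (op U))

theorem gam_app (U : X.Opens) (a : Γ(X, U)) : gam L hq U ((pr L hq).app U a) = TrivSqZeroExt.inl a :=
  congrArg (fun g => (g.app (op U)).hom a) (alg L hq).π_c_gammaMap

theorem gam_res {U V : X.Opens} (h : V ≤ U) (t : Γ(C L hq, pr L hq ⁻¹ᵁ U)) :
    gam L hq V (fres (C L hq) ((pr L hq).preimage_mono h) t) = resE L h (gam L hq U t) :=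
  ConcreteCategory.congr_hom ((alg L hq).gammaMap.naturality (homOfLE h).op) t

theorem exists_section :
    ∃ (ε : X ⟶ C L hq) (w : ε ≫ pr L hq = 𝟙 X),
      ∀ (U : X.Opens) (e : U ≤ ε ⁻¹ᵁ (pr L hq ⁻¹ᵁ U)) (t : Γ(C L hq, pr L hq ⁻¹ᵁ U)),
        (ε.appLE (pr L hq ⁻¹ᵁ U) U e).hom t = (gam L hq U t).fst := by
  obtain ⟨ε, w, hε⟩ := GrothLib.AffAlg8.exists_hom (RelSpec.QCAlg.π (alg L hq)) (𝟙 X)
    ((alg L hq).gammaMap ≫ aug L ≫ (𝟙 X : X ⟶ X).c) (by
      rw [reassoc_of% (alg L hq).π_c_gammaMap]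
      ext U r
      rfl)
  refine ⟨ε, w, fun U e t => ?_⟩
  have h := ConcreteCategory.congr_hom
    ((GrothLib.AffAlg8.algHom_app _ _ ε w U).symm.trans (congrArg (fun g => g.app (op U)) hε)) t
  exact h

/-- The section. -/
def sec : X ⟶ C L hq := (exists_section L hq).choose

theorem sec_pr : sec L hq ≫ pr L hq = 𝟙 X := (exists_section L hq).choose_spec.choose

theorem sec_appLE (U : X.Opens) (e : U ≤ sec L hq ⁻¹ᵁ (pr L hq ⁻¹ᵁ U)) (t : Γ(C L hq, pr L hq ⁻¹ᵁ U)) :
    ((sec L hq).appLE (pr L hq ⁻¹ᵁ U) U e).hom t = (gam L hq U t).fst :=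
  (exists_section L hq).choose_spec.choose_spec U e t

theorem sec_preimage (U : X.Opens) : sec L hq ⁻¹ᵁ (pr L hq ⁻¹ᵁ U) = U := by
  rw [← Scheme.Hom.comp_preimage, sec_pr, Scheme.Hom.id_preimage]

instance : IsClosedImmersion (sec L hq) := by
  haveI : IsClosedImmersion (sec L hq ≫ pr L hq) := by rw [sec_pr]; infer_instance
  exact IsClosedImmersion.of_comp (sec L hq) (pr L hq)

theorem fst_eq_zero_iff (U : X.Opens) (t : Γ(C L hq, pr L hq ⁻¹ᵁ U)) :
    (gam L hq U t).fst = 0 ↔ (sec L hq).app (pr L hq ⁻¹ᵁ U) t = 0 := by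
  rw [← sec_appLE L hq U (sec_preimage L hq U).ge t]
  show (X.presheaf.map (homOfLE (sec_preimage L hq U).ge).op).hom ((sec L hq).app _ t) = 0 ↔ _
  refine ⟨fun h => ?_, fun h => by rw [h, map_zero]⟩
  have h2 := congrArg (fres X (sec_preimage L hq U).le) h
  exact ((fres_fres _ _ _).trans (fres_self _)).symm.trans (h2.trans (map_zero _))

theorem ker_sq : (sec L hq).ker ^ 2 = ⊥ := by
  refine Scheme.IdealSheafData.ext_of_iSup_eq_top
    (fun U : X.affineOpens => ⟨pr L hq ⁻¹ᵁ U.1, U.2.preimage _⟩)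
    (TopologicalSpace.IsOpenCover.comap (iSup_affineOpens_eq_top _) _) fun U => ?_
  simp only [Scheme.IdealSheafData.ideal_pow, Scheme.IdealSheafData.ideal_bot, Pi.bot_apply, Pi.pow_apply,
    Scheme.Hom.ker_apply]
  rw [eq_bot_iff, pow_two, Ideal.mul_le]
  intro a ha b hb
  have ha' := (fst_eq_zero_iff L hq U.1 a).2 (RingHom.mem_ker.1 ha)
  have hb' := (fst_eq_zero_iff L hq U.1 b).2 (RingHom.mem_ker.1 hb)
  refine Ideal.mem_bot.2 ((gam_bijective L hq U.1).1 ?_)
  rw [map_mul, map_zero]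
  refine TrivSqZeroExt.ext ?_ ?_
  · rw [TrivSqZeroExt.fst_mul, ha', zero_mul, TrivSqZeroExt.fst_zero]
  · rw [TrivSqZeroExt.snd_mul, ha', hb', zero_smul, TrivSqZeroExt.snd_zero]
    simp

theorem exists_idl (U : X.Opens) (x : Γ(L, U)) :
    ∃ m : Γ(ClSub.idealMod (sec L hq).ker, pr L hq ⁻¹ᵁ U),
      gam L hq U (IdealModSec.val (sec L hq).ker _ m) = TrivSqZeroExt.inr x := by
  obtain ⟨t, ht⟩ := (gam_bijective L hq U).2 (TrivSqZeroExt.inr x)
  obtain ⟨m, hm⟩ := SqZero11.exists_idealSect (sec L hq) (pr L hq ⁻¹ᵁ U) t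
    ((fst_eq_zero_iff L hq U t).1 (by rw [ht]; rfl))
  exact ⟨m, (congrArg (gam L hq U) (show IdealModSec.val (sec L hq).ker _ m = t from hm)).trans ht⟩

/-- A section of `L` as a section of the ideal. -/
def idl (U : X.Opens) (x : Γ(L, U)) : Γ(ClSub.idealMod (sec L hq).ker, pr L hq ⁻¹ᵁ U) :=
  (exists_idl L hq U x).choose

theorem gam_idl (U : X.Opens) (x : Γ(L, U)) :
    gam L hq U (IdealModSec.val (sec L hq).ker _ (idl L hq U x)) = TrivSqZeroExt.inr x :=
  (exists_idl L hq U x).choose_spec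

theorem idl_eq {U : X.Opens} {x : Γ(L, U)} {m : Γ(ClSub.idealMod (sec L hq).ker, pr L hq ⁻¹ᵁ U)}
    (h : gam L hq U (IdealModSec.val (sec L hq).ker _ m) = TrivSqZeroExt.inr x) : idl L hq U x = m :=
  IdealModSec.val_injective _ _ ((gam_bijective L hq U).1 ((gam_idl L hq U x).trans h.symm))

theorem idl_add (U : X.Opens) (x y : Γ(L, U)) : idl L hq U (x + y) = idl L hq U x + idl L hq U y := by
  refine idl_eq L hq ?_
  rw [TrivSqZeroExt.inr_add, ← gam_idl L hq U x, ← gam_idl L hq U y, ← map_add]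
  exact congrArg (gam L hq U) (map_add ((ClSub.idealModι (sec L hq).ker).app _).hom _ _)

theorem idl_smul (U : X.Opens) (a : Γ(X, U)) (x : Γ(L, U)) :
    idl L hq U (a • x) = (pr L hq).app U a • idl L hq U x := by
  refine idl_eq L hq ?_
  rw [IdealModSec.val_smul, map_mul, gam_app, gam_idl, TrivSqZeroExt.inl_mul_inr]

theorem idl_mres {U V : X.Opens} (h : V ≤ U) (x : Γ(L, U)) :
    idl L hq V (mres L h x) =
      mres (ClSub.idealMod (sec L hq).ker) ((pr L hq).preimage_mono h) (idl L hq U x) := by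
  refine idl_eq L hq ?_
  rw [IdealModSec.val_mres, gam_res L hq h, gam_idl]
  exact TrivSqZeroExt.ext (map_zero _) rfl

/-- A section of `L` as a section of the conormal sheaf. -/
def psi (U : X.Opens) (x : Γ(L, U)) : Γ(Omega.conormal (sec L hq), U) :=
  mres (Omega.conormal (sec L hq)) (sec_preimage L hq U).ge
    (OmegaSh.conormalSect (sec L hq) _ (idl L hq U x))

theorem psi_add (U : X.Opens) (x y : Γ(L, U)) : psi L hq U (x + y) = psi L hq U x + psi L hq U y := by
  rw [psi, idl_add, map_add]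
  exact map_add _ _ _

theorem psi_smul (U : X.Opens) (a : Γ(X, U)) (x : Γ(L, U)) : psi L hq U (a • x) = a • psi L hq U x := by
  have h1 : OmegaSh.conormalSect (sec L hq) _ ((pr L hq).app U a • idl L hq U x) =
      (sec L hq).app (pr L hq ⁻¹ᵁ U) ((pr L hq).app U a) • OmegaSh.conormalSect (sec L hq) _ (idl L hq U x) :=
    (Scheme.Modules.Hom.app_smul _ _ _).trans rfl
  rw [psi, idl_smul, h1, mres_smul]
  refine congrArg (· • psi L hq U x) ?_
  have h2 := sec_appLE L hq U (sec_preimage L hq U).ge ((pr L hq).app U a)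
  rw [gam_app, TrivSqZeroExt.fst_inl] at h2
  exact h2

theorem psi_mres {U V : X.Opens} (h : V ≤ U) (x : Γ(L, U)) :
    psi L hq V (mres L h x) = mres (Omega.conormal (sec L hq)) h (psi L hq U x) := by
  rw [psi, idl_mres]
  refine (congrArg (mres (Omega.conormal (sec L hq)) (sec_preimage L hq V).ge)
    (SqZero11.pullSect_map' (sec L hq) (ClSub.idealMod (sec L hq).ker) ((pr L hq).preimage_mono h)
      (idl L hq U x))).trans ?_
  exact (mres_mres _ _ _ _).trans (mres_mres _ _ _ _).symm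

theorem psi_bijective (U : X.Opens) : Function.Bijective (psi L hq U) := by
  have hm := mres_bijective_of_eq (Omega.conormal (sec L hq)) (sec_preimage L hq U).symm
  have hc := SqZero11.conormalSect_bijective (sec L hq) (ker_sq L hq) (pr L hq ⁻¹ᵁ U)
  refine ⟨fun x y h => ?_, fun k => ?_⟩
  · exact TrivSqZeroExt.inr_injective (((gam_idl L hq U x).symm.trans
      (congrArg (fun m => gam L hq U (IdealModSec.val (sec L hq).ker _ m)) (hc.1 (hm.1 h)))).trans
        (gam_idl L hq U y))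
  · obtain ⟨k₁, rfl⟩ := hm.2 k
    obtain ⟨m, rfl⟩ := hc.2 k₁
    refine ⟨(gam L hq U (IdealModSec.val (sec L hq).ker _ m)).snd, ?_⟩
    have h0 : (gam L hq U (IdealModSec.val (sec L hq).ker _ m)).fst = 0 :=
      (fst_eq_zero_iff L hq U _).2 (H1Sheaf6.app_val_eq_zero (sec L hq) _ m)
    rw [psi, idl_eq L hq (m := m) (TrivSqZeroExt.ext (h0.trans (TrivSqZeroExt.fst_inr _ _).symm)
      (TrivSqZeroExt.snd_inr _ _).symm)]

/-- The comparison of `L` with the conormal sheaf. -/
def psiHom : L ⟶ Omega.conormal (sec L hq) :=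
  ⟨PresheafOfModules.homMk
    { app := fun U => AddCommGrpCat.ofHom (AddMonoidHom.mk' (psi L hq U.unop) (psi_add L hq U.unop))
      naturality := fun U V i => AddCommGrpCat.hom_ext (AddMonoidHom.ext fun x =>
        psi_mres L hq i.unop.le x) }
    fun U r m => psi_smul L hq U.unop r m⟩

theorem exists_conormal_iso : Nonempty (Omega.conormal (sec L hq) ≅ L) := by
  haveI : IsIso (psiHom L hq) := by
    rw [Scheme.Modules.Hom.isIso_iff_isIso_app]
    intro U
    exact (ConcreteCategory.isIso_iff_bijective _).2 (psi_bijective L hq U)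
  exact ⟨(asIso (psiHom L hq)).symm⟩

theorem locallyOfFiniteType_pr (hL : PicF.IsInvertible L) : LocallyOfFiniteType (pr L hq) := by
  rw [HasRingHomProperty.iff_exists_appLE (P := @LocallyOfFiniteType)
    (RingHom.finiteType_stableUnderComposition.stableUnderCompositionWithLocalizationAway
      RingHom.finiteType_holdsForLocalizationAway).1]
  intro c
  obtain ⟨U₀, e₀, hU₀, he₀⟩ := exists_gen_nhd hL (pr L hq c)
  obtain ⟨U, hU, hxU, hUU⟩ := exists_isAffineOpen_mem_and_subset hU₀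
  let e := mres L hUU e₀
  have he : IsGen L U e := he₀.restrict hUU
  refine ⟨⟨U, hU⟩, ⟨pr L hq ⁻¹ᵁ U, hU.preimage _⟩, hxU, le_rfl, ?_⟩
  rw [← Scheme.Hom.app_eq_appLE]
  let f : Γ(X, U) →+* Γ(C L hq, pr L hq ⁻¹ᵁ U) := ((pr L hq).app U).hom
  show f.FiniteType
  letI : Algebra Γ(X, U) Γ(C L hq, pr L hq ⁻¹ᵁ U) := f.toAlgebra
  show Algebra.FiniteType Γ(X, U) Γ(C L hq, pr L hq ⁻¹ᵁ U)
  obtain ⟨g, hg⟩ := (gam_bijective L hq U).2 (TrivSqZeroExt.inr e)
  refine ⟨⟨{g}, eq_top_iff.2 fun t _ => ?_⟩⟩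
  obtain ⟨b, hb⟩ := he.exists_smul_eq le_rfl (gam L hq U t).snd
  have ht : t = algebraMap Γ(X, U) _ (gam L hq U t).fst + algebraMap Γ(X, U) _ b * g := by
    refine (gam_bijective L hq U).1 ?_
    rw [map_add, map_mul, hg]
    show _ = gam L hq U ((pr L hq).app U _) + gam L hq U ((pr L hq).app U b) * _
    rw [gam_app, gam_app, TrivSqZeroExt.inl_mul_inr]
    refine TrivSqZeroExt.ext ?_ ?_
    · rw [TrivSqZeroExt.fst_add, TrivSqZeroExt.fst_inl, TrivSqZeroExt.fst_inr, add_zero]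
    · rw [TrivSqZeroExt.snd_add, TrivSqZeroExt.snd_inl, TrivSqZeroExt.snd_inr, zero_add]
      exact hb.trans (congrArg (b • ·) (mres_self L e))
  rw [ht]
  refine add_mem (Subalgebra.algebraMap_mem _ _) (mul_mem (Subalgebra.algebraMap_mem _ _) ?_)
  exact Algebra.subset_adjoin (Finset.mem_coe.2 (Finset.mem_singleton_self g))

end GrothLib.Ribbon10
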